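import Mathlib
import Cfsg.Agent.SLn.Basic
set_option autoImplicit false

/-!
Simplicity of `PSL_n` through the criterion of Iwasawa.
-/

namespace CfsgLib.SLn

open Matrix Matrix.SpecialLinearGroup MulAction
open scoped LinearAlgebra.Projectivization

variable {ι F : Type*} [Field F] [DecidableEq ι] [Fintype ι]

theorem iSup_iwasawaT [Nontrivial ι] : iSup (PSL.iwasawaT (F := F) (ι := ι)) = ⊤ := by
  have h : (⨆ p : ℙ F (ι → F), lineStab (F := F) (ι := ι) p.submodule) = ⊤ := by
    refine eq_top_of_transvection _ fun i j hij c => ?_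
    refine Subgroup.mem_iSup_of_mem
      (Projectivization.mk F (Pi.single i 1 : ι → F) (Pi.single_ne_zero_iff.2 one_ne_zero)) ?_
    rw [Projectivization.submodule_mk]
    exact SL2Gen.transvection_mem_lineStab hij c
  have h1 : iSup (PSL.iwasawaT (F := F) (ι := ι)) =
      Subgroup.map (QuotientGroup.mk' (Subgroup.center (SpecialLinearGroup ι F)))
        (⨆ p : ℙ F (ι → F), lineStab (F := F) (ι := ι) p.submodule) := by
    rw [Subgroup.map_iSup]
  rw [h1, h]
  exact Subgroup.map_top_of_surjective _ (QuotientGroup.mk'_surjective _)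

/-- The Iwasawa structure of `PSL` on projective space. -/
noncomputable def iwasawa [Nontrivial ι] :
    IwasawaStructure (ProjectiveSpecialLinearGroup ι F) (ℙ F (ι → F)) where
  T := PSL.iwasawaT
  is_comm p := by
    have hSL : IsMulCommutative (lineStab (F := F) (ι := ι) p.submodule) := by
      rw [← Projectivization.mk_rep p, Projectivization.submodule_mk]
      exact lineStab_isMulCommutative_of_span p.rep p.rep_nonzero
    exact Subgroup.map_isMulCommutative _ _
  is_conj g p := by
    obtain ⟨g_SL, rfl⟩ := QuotientGroup.mk_surjective g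
    rw [Matrix.ProjectiveSpecialLinearGroup.smul_proj_mk]
    change Subgroup.map _ _ = _
    rw [PSL.smul_submodule, Matrix.SpecialLinearGroup.lineStab_smul,
      PSL.iwasawaT_map_conj]
  is_generator := iSup_iwasawaT

/-- `PSL` is simple once `SL` is perfect. -/
theorem isSimpleGroup_PSL [Nontrivial ι]
    (h : 3 ≤ Fintype.card ι ∨ ∃ x : F, x ≠ 0 ∧ x ^ 2 ≠ 1) :
    IsSimpleGroup (ProjectiveSpecialLinearGroup ι F) := by
  have hperf : commutator (ProjectiveSpecialLinearGroup ι F) = ⊤ := by
    have h1 : Subgroup.map (QuotientGroup.mk' (Subgroup.center (SpecialLinearGroup ι F))) ⊤ =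
        (⊤ : Subgroup (ProjectiveSpecialLinearGroup ι F)) :=
      Subgroup.map_top_of_surjective _ (QuotientGroup.mk'_surjective _)
    have h2 := Subgroup.map_commutator (⊤ : Subgroup (SpecialLinearGroup ι F)) ⊤
      (QuotientGroup.mk' (Subgroup.center (SpecialLinearGroup ι F)))
    rw [← commutator_def, commutator_eq_top h, h1] at h2
    exact h2.symm
  exact (iwasawa (ι := ι) (F := F)).isSimpleGroup hperf inferInstance

end CfsgLib.SLn
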